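import Groth.Agent.StMod.K741.FibBC
import Groth.Agent.StMod.K906.FlatDesc
import Groth.Agent.StMod.K906.PresQc
import Groth.Agent.StMod.K908.QuotQc
import Groth.Agent.S13574

/-!
# Base change and flat descent of cohomological affineness of `BG ⟶ S`
-/

set_option autoImplicit false
set_option linter.unusedVariables false
set_option linter.style.haveILetI false
set_option backward.isDefEq.respectTransparency false
set_option backward.isDefEq.respectTransparency.types false

universe w v u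

open CategoryTheory CategoryTheory.Limits MonoidalCategory CartesianMonoidalCategory AlgebraicGeometry
open Opposite AlgSt
open StMod hiding fibCat

namespace K741.BGRows

open K906 K741.PushCat K741.BGbc K741.PtArr K741.FibBC

variable {S : Scheme.{u}}

theorem isAlgStack (G : Over S) [GrpObj G] [IsAffineHom G.hom] [Flat G.hom] [LocallyOfFinitePresentation G.hom] :
    IsAlgStack Scheme.fppfPrecoverage (BG Scheme.fppfPrecoverage G) :=
  (Groth.Agent.S13574.result G).2 ⟨inferInstance, inferInstance⟩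

theorem isFibGrpd_PtC : FibCat.IsFibGrpd (PtC S).p := FlatDesc.isFibGrpd_ofSp _

theorem isIso_toPt : IsIso (Over.mkIdTerminal.from (𝟙_ (Over S))) :=
  ⟨toUnit _, (toUnit_unique _ _), Over.mkIdTerminal.hom_ext _ _⟩

section Qc

variable (G : Over S) [GrpObj G] [IsAffineHom G.hom] [Flat G.hom] [LocallyOfFinitePresentation G.hom]
  (σ : BG Scheme.fppfPrecoverage G ⥤ᵇ PtC S)

theorem isQuasiSeparatedMor : IsQuasiSeparatedMor σ := by
  have := isIso_toPt (S := S)
  have h1 : IsIso (Over.mkIdTerminal.from (𝟙_ (Over S))).left := inferInstance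
  exact K908.QuotQc.isQuasiSeparatedMor σ (Over.mkIdTerminal.from (𝟙_ (Over S))) (K908.ToBase.functor_eq _ _)
    (isAlgStack G) inferInstance

theorem isQuasiCompactMor : IsQuasiCompactMor Scheme.fppfPrecoverage σ := by
  have := isIso_toPt (S := S)
  have h1 : IsIso (Over.mkIdTerminal.from (𝟙_ (Over S))).left := inferInstance
  exact K908.QuotQc.isQuasiCompactMor σ (Over.mkIdTerminal.from (𝟙_ (Over S))) (K908.ToBase.functor_eq _ _)
    (isAlgStack G) inferInstance

theorem nonempty_pres {η : (PtC S).obj} (hη : IsAffine (sch (PtC S) η)) : Nonempty (Pres (fibCat σ η)) :=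
  K906.nonempty_pres (isAlgStack G).isStack.1 isFibGrpd_PtC K742.QC.isAlgStack_overCat (isQuasiCompactMor G σ)
    (isQuasiSeparatedMor G σ) hη

theorem exact_tst [QuasiSeparatedSpace S] (h : IsCohAffine σ) (W : Over S) (hW : Etale W.hom) (hA : IsAffine W.left) :
    Exact (fibCat σ (pc W)) := by
  have h𝒳 := isAlgStack G
  obtain ⟨A₀⟩ := nonempty_smAtlas h𝒳.isStack.1 h𝒳.atlas
  let E : AlgSp.EtOver ((AlgSp.yon S).obj (Over.mk (𝟙 S))) :=
    AlgSp.EtOver.mk ((AlgSp.yon S).map (Over.homMk W.hom (Category.comp_id _) : W ⟶ Over.mk (𝟙 S)))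
      ((AlgSp.repWith_yon_map_iff @Etale _).2 hW)
  have hq : QuasiSeparatedSpace (Over.mk (𝟙 S)).left := inferInstanceAs (QuasiSeparatedSpace S)
  have h1 := ExactE.exact_fibCat h𝒳.isStack.1 A₀ σ h E hA (ExactE.repWith_quasiCompact_of_sch (M₀ := Over.mk (𝟙 S)) E hA)
  have e : etaOf E = pc W := K908.ToBase.obj_ext rfl
  rw [← e]
  exact h1

end Qc

theorem etale_base (E : AlgSp.EtOver ((AlgSp.yon S).obj (Over.mk (𝟙 S)))) : Etale E.obj.left.hom := by
  obtain ⟨e, he⟩ := (AlgSp.yon S).map_surjective E.obj.hom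
  have h1 : AlgSp.RepWith @Etale ((AlgSp.yon S).map e) := by
    rw [he]
    exact E.property
  have h2 : Etale e.left := (AlgSp.repWith_yon_map_iff @Etale e).1 h1
  have h3 : e.left ≫ 𝟙 S = E.obj.left.hom := Over.w e
  have h4 : e.left = E.obj.left.hom := (Category.comp_id _).symm.trans h3
  rw [← h4]
  exact h2

variable {S' : Scheme.{u}} (f : S' ⟶ S) (G : Over S) [GrpObj G] [IsAffineHom G.hom] [Flat G.hom]
  [LocallyOfFinitePresentation G.hom]

instance : IsAffineHom (Red.bc f G).hom := by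
  change IsAffineHom (pullback.snd G.hom f)
  exact MorphismProperty.pullback_snd _ _ inferInstance

instance : Flat (Red.bc f G).hom := by
  change Flat (pullback.snd G.hom f)
  infer_instance

instance : LocallyOfFinitePresentation (Red.bc f G).hom := by
  change LocallyOfFinitePresentation (pullback.snd G.hom f)
  infer_instance

/-- Base change. -/
theorem s19121 [QuasiSeparatedSpace S] (σ : BG Scheme.fppfPrecoverage G ⥤ᵇ PtC S) (h : IsCohAffine σ)
    (σ' : BG Scheme.fppfPrecoverage (Red.bc f G) ⥤ᵇ PtC S') : IsCohAffine σ' := by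
  intro F F' u hu E hE
  have hE' : IsAffine (sch (PtC S') (etaOf E)) := hE
  have hG := (isAlgStack G).isStack.1
  have hG' := (isAlgStack (Red.bc f G)).isStack.1
  obtain ⟨P⟩ := nonempty_pres (Red.bc f G) σ' hE'
  refine FlatLoc.surjective_relSectMap_of_flat_local hG' isFibGrpd_PtC hE' P u.hom fun x => ?_
  let q : E.obj.left.left ⟶ S := E.obj.left.hom ≫ f
  obtain ⟨_, ⟨U₀, hU₀, rfl⟩, hxU, -⟩ := S.isBasis_affineOpens.exists_subset_of_mem_open
    (Set.mem_univ (q x)) isOpen_univ
  obtain ⟨_, ⟨V₀, hV₀, rfl⟩, hxV, hVU⟩ := E.obj.left.left.isBasis_affineOpens.exists_subset_of_mem_open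
    (show x ∈ ((q ⁻¹ᵁ U₀ : E.obj.left.left.Opens) : Set E.obj.left.left) from hxU) (q ⁻¹ᵁ U₀).isOpen
  let U : S.Opens := U₀
  let V : E.obj.left.left.Opens := V₀
  have hle : V ≤ q ⁻¹ᵁ U := hVU
  let W' : Over S' := Over.mk (V.ι ≫ E.obj.left.hom)
  let iW : W' ⟶ (etaOf E).base := Over.homMk V.ι rfl
  let W : Over S := Over.mk U.ι
  let k : (Over.map f).obj W' ⟶ W := Over.homMk (IsOpenImmersion.lift U.ι (V.ι ≫ q) (by
    rintro _ ⟨z, rfl⟩
    exact ⟨(⟨q (V.ι z), hle z.2⟩ : U), rfl⟩)) (by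
    change IsOpenImmersion.lift U.ι (V.ι ≫ q) _ ≫ U.ι = (V.ι ≫ E.obj.left.hom) ≫ f
    rw [IsOpenImmersion.lift_fac, Category.assoc])
  refine ⟨pc W', pcMap iW, ⟨hV₀, ?_, ?_⟩, ?_⟩
  · change Flat V.ι
    infer_instance
  · exact ⟨(⟨x, hxV⟩ : V), rfl⟩
  · refine AffFp.surjective_relSectMap_of_exact ?_ u hu
    exact exact_bc f σ' σ (η' := pc W') (η := pc W) k hG' hG hV₀ hU₀
      (exact_tst G σ h W (by change Etale U.ι; infer_instance) hU₀)

/-- Flat descent. -/
theorem s19122 [QuasiSeparatedSpace S'] [Flat f] [Surjective f] (σ : BG Scheme.fppfPrecoverage G ⥤ᵇ PtC S)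
    (σ' : BG Scheme.fppfPrecoverage (Red.bc f G) ⥤ᵇ PtC S') (h' : IsCohAffine σ') : IsCohAffine σ := by
  intro F F' u hu E hE
  have hE' : IsAffine (sch (PtC S) (etaOf E)) := hE
  have hG := (isAlgStack G).isStack.1
  have hG' := (isAlgStack (Red.bc f G)).isStack.1
  obtain ⟨P⟩ := nonempty_pres G σ hE'
  refine FlatLoc.surjective_relSectMap_of_flat_local hG isFibGrpd_PtC hE' P u.hom fun x => ?_
  have hEt : Etale E.obj.left.hom := etale_base E
  obtain ⟨z, hz⟩ : ∃ z, pullback.fst E.obj.left.hom f z = x := (inferInstance : Surjective (pullback.fst E.obj.left.hom f)).surj x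
  obtain ⟨_, ⟨V₀, hV₀, rfl⟩, hzV, -⟩ := (pullback E.obj.left.hom f).isBasis_affineOpens.exists_subset_of_mem_open
    (Set.mem_univ z) isOpen_univ
  let V : (pullback E.obj.left.hom f).Opens := V₀
  let W' : Over S' := Over.mk (V.ι ≫ pullback.snd E.obj.left.hom f)
  have hW' : Etale W'.hom := by
    change Etale (V.ι ≫ pullback.snd E.obj.left.hom f)
    infer_instance
  let iW : (Over.map f).obj W' ⟶ (etaOf E).base := Over.homMk (V.ι ≫ pullback.fst E.obj.left.hom f) (by
    change (V.ι ≫ pullback.fst E.obj.left.hom f) ≫ E.obj.left.hom = (V.ι ≫ pullback.snd E.obj.left.hom f) ≫ f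
    rw [Category.assoc, pullback.condition, Category.assoc])
  refine ⟨pc ((Over.map f).obj W'), pcMap iW, ⟨hV₀, ?_, ?_⟩, ?_⟩
  · change Flat (V.ι ≫ pullback.fst E.obj.left.hom f)
    infer_instance
  · refine ⟨(⟨z, hzV⟩ : V), ?_⟩
    change (V.ι ≫ pullback.fst E.obj.left.hom f) (⟨z, hzV⟩ : V) = x
    rw [Scheme.Hom.comp_apply]
    exact hz
  · refine AffFp.surjective_relSectMap_of_exact ?_ u hu
    exact exact_desc f σ' σ (η' := pc W') (η := pc ((Over.map f).obj W')) (𝟙 _) hG' hG hV₀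
      (by change IsIso (𝟙 _); infer_instance) (exact_tst (Red.bc f G) σ' h' W' hW' hV₀)

end K741.BGRows
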