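import Groth.Agent.StMod.K741.PushCat
import Groth.Agent.NonAbH1.K552.Push
import Groth.Agent.StMod.K908.ToBase
import Mathlib.CategoryTheory.Limits.Constructions.Over.Connected

/-!
# `B(G ×_S S')` over `S'` and `BG` over `S`
-/

set_option autoImplicit false
set_option linter.unusedVariables false
set_option linter.style.haveILetI false
set_option backward.isDefEq.respectTransparency false
set_option backward.isDefEq.respectTransparency.types false

universe w v u

open CategoryTheory CategoryTheory.Limits MonoidalCategory CartesianMonoidalCategory MonObj GrpObj AlgebraicGeometry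
open Opposite StMod AlgSt K552.Push Groth.Agent.Books.BorelOrb

namespace K741.BGbc

open K906 K741.PushCat

section Pts

variable {S : Scheme.{u}} {G X T : Over S} [GrpObj G] (a : AlgGrp.Action G X) (π : X ⟶ T)

theorem isPullback_of_pts (w : a.act ≫ π = snd G X ≫ π)
    (h : ∀ (W : Over S) (z z' : W ⟶ X), z ≫ π = z' ≫ π → ∃! g : W ⟶ G, sm a g z' = z) :
    IsPullback a.act (snd G X) π π := by
  refine ⟨⟨w⟩, ⟨PullbackCone.IsLimit.mk w (fun s => lift (h s.pt s.fst s.snd s.condition).exists.choose s.snd)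
    (fun s => (h s.pt s.fst s.snd s.condition).exists.choose_spec) (fun s => lift_snd _ _)
    (fun s m h1 h2 => ?_)⟩⟩
  have h3 : m = lift (m ≫ fst G X) s.snd := by
    apply CartesianMonoidalCategory.hom_ext
    · rw [lift_fst]
    · rw [lift_snd]
      exact h2
  rw [h3]
  congr 1
  refine (h s.pt s.fst s.snd s.condition).unique ?_ (h s.pt s.fst s.snd s.condition).exists.choose_spec
  change lift (m ≫ fst G X) s.snd ≫ a.act = s.fst
  rw [← h3]
  exact h1

variable {a π}

theorem existsUnique_of_isPullback (hc : IsPullback a.act (snd G X) π π) {W : Over S} (z z' : W ⟶ X)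
    (hz : z ≫ π = z' ≫ π) : ∃! g : W ⟶ G, sm a g z' = z := by
  have e : lift (hc.lift z z' hz ≫ fst G X) z' = hc.lift z z' hz := by
    apply CartesianMonoidalCategory.hom_ext
    · rw [lift_fst]
    · rw [lift_snd, hc.lift_snd]
  refine ⟨hc.lift z z' hz ≫ fst G X, ?_, fun g hg => ?_⟩
  · change lift _ z' ≫ a.act = z
    rw [e, hc.lift_fst]
  · have h1 : lift g z' = hc.lift z z' hz := by
      refine hc.hom_ext ?_ ?_
      · rw [hc.lift_fst]
        exact hg
      · rw [hc.lift_snd, lift_snd]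
    rw [← h1, lift_fst]

theorem sm_comp_of_isPullback (w : a.act ≫ π = snd G X ≫ π) {W : Over S} (g : W ⟶ G) (z : W ⟶ X) :
    sm a g z ≫ π = z ≫ π := by
  change (lift g z ≫ a.act) ≫ π = z ≫ π
  rw [Category.assoc, w, ← Category.assoc, lift_snd]

theorem equiv_iff_sm {Y : Over S} {b : AlgGrp.Action G Y} {φ : X ⟶ Y} :
    a.act ≫ φ = (G ◁ φ) ≫ b.act ↔ ∀ (W : Over S) (g : W ⟶ G) (z : W ⟶ X), sm a g z ≫ φ = sm b g (z ≫ φ) := by
  constructor
  · intro h W g z
    change (lift g z ≫ a.act) ≫ φ = lift g (z ≫ φ) ≫ b.act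
    rw [Category.assoc, h, ← Category.assoc, lift_whiskerLeft]
  · intro h
    have := h _ (fst G X) (snd G X)
    change (lift (fst G X) (snd G X) ≫ a.act) ≫ φ = lift (fst G X) (snd G X ≫ φ) ≫ b.act at this
    rw [lift_fst_snd, Category.id_comp] at this
    rw [this]
    congr 1

end Pts

variable {S S' : Scheme.{u}} (f : S' ⟶ S) {G : Over S} [GrpObj G]

theorem isPullback_map {P X Y Z : Over S'} {a : P ⟶ X} {b : P ⟶ Y} {c : X ⟶ Z} {d : Y ⟶ Z} (h : IsPullback a b c d) :
    IsPullback ((Over.map f).map a) ((Over.map f).map b) ((Over.map f).map c) ((Over.map f).map d) := by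
  refine IsPullback.of_map (Over.forget S) ?_ ?_
  · rw [← Functor.map_comp, ← Functor.map_comp, h.w]
  · exact h.map (Over.forget S')

theorem isPullback_of_map {P X Y Z : Over S'} {a : P ⟶ X} {b : P ⟶ Y} {c : X ⟶ Z} {d : Y ⟶ Z}
    (h : IsPullback ((Over.map f).map a) ((Over.map f).map b) ((Over.map f).map c) ((Over.map f).map d)) :
    IsPullback a b c d := by
  refine IsPullback.of_map (Over.forget S') ?_ ?_
  · apply map_faithful f
    rw [Functor.map_comp, Functor.map_comp, h.w]
  · exact h.map (Over.forget S)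

theorem push_cart {Z T : Over S'} {b : AlgGrp.Action (Red.bc f G) Z} {π : Z ⟶ T}
    (hc : IsPullback b.act (snd _ Z) π π) :
    IsPullback (push b).act (snd G _) ((Over.map f).map π) ((Over.map f).map π) := by
  have hs : ∀ {W : Over S} (g : W ⟶ G) (z : W ⟶ (Over.map f).obj Z),
      sm (push b) g z ≫ (Over.map f).map π = z ≫ (Over.map f).map π := by
    intro W g z
    obtain ⟨T₀, i, j, z₀, h1, h2, rfl⟩ := exists_src z
    obtain ⟨g, rfl⟩ : ∃ g', i ≫ g' = g := ⟨j ≫ g, by rw [← Category.assoc, h1, Category.id_comp]⟩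
    rw [← comp_sm, sm_push_map, Category.assoc, ← Functor.map_comp, sm_comp_of_isPullback hc.w, Category.assoc,
      Functor.map_comp]
  refine isPullback_of_pts _ _ ?_ ?_
  · have h := hs (fst G _) (snd G ((Over.map f).obj Z))
    change (lift (fst G _) (snd G _) ≫ (push b).act) ≫ _ = _ at h
    rwa [lift_fst_snd, Category.id_comp] at h
  · intro W z z' hz
    obtain ⟨T₀, i, j, z₀, h1, h2, rfl⟩ := exists_src z
    obtain ⟨z', rfl⟩ : ∃ z'', i ≫ z'' = z' := ⟨j ≫ z', by rw [← Category.assoc, h1, Category.id_comp]⟩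
    have hz' : (Over.map f).map z₀ ≫ (Over.map f).map π = z' ≫ (Over.map f).map π := by
      have := congrArg (fun t => j ≫ t) hz
      simpa only [← Category.assoc, h2, Category.id_comp] using this
    obtain ⟨z', rfl⟩ := exists_map f z' π (z₀ ≫ π) (by rw [← hz', Functor.map_comp])
    rw [← Functor.map_comp, ← Functor.map_comp] at hz'
    obtain ⟨g₀, hg, hu⟩ := existsUnique_of_isPullback hc z₀ z' (map_faithful f hz')
    refine ⟨i ≫ dn g₀, ?_, ?_⟩
    · change sm (push b) (i ≫ dn g₀) (i ≫ _) = _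
      rw [← comp_sm, sm_push_map, up_dn, hg]
    · intro g hg'
      obtain ⟨g, rfl⟩ : ∃ g', i ≫ g' = g := ⟨j ≫ g, by rw [← Category.assoc, h1, Category.id_comp]⟩
      rw [← comp_sm, sm_push_map] at hg'
      have h4 : (Over.map f).map (sm b (up g) z') = (Over.map f).map z₀ := by
        have := congrArg (fun t => j ≫ t) hg'
        simpa only [← Category.assoc, h2, Category.id_comp] using this
      rw [← hu (up g) (map_faithful f h4), dn_up]

/-- `B(G ×_S S') ⟶ BG` on objects. -/
noncomputable def PhiObj (A : (BG Scheme.fppfPrecoverage (Red.bc f G)).obj) :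
    (BG Scheme.fppfPrecoverage G).obj where
  base := (Over.map f).obj A.base
  P := (Over.map f).obj A.P
  act := push A.act
  π := (Over.map f).map A.π
  cart := push_cart f A.cart
  loc := A.loc
  φ := toUnit _
  eqv := toUnit_unique _ _

variable (G) in
/-- `B(G ×_S S') ⟶ BG`. -/
noncomputable def Phi : pushCat f (BG Scheme.fppfPrecoverage (Red.bc f G)) ⥤ᵇ BG Scheme.fppfPrecoverage G where
  toFunctor :=
    { obj := fun A => PhiObj f A
      map := fun {A B} h =>
        { base := (Over.map f).map h.base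
          top := (Over.map f).map h.top
          eqv := equiv_iff_sm.2 ((isEquivariant_push_iff A.act B.act h.top).1 h.eqv)
          cart := isPullback_map f h.cart
          wφ := toUnit_unique _ _ }
      map_id := fun A => QuotObj.hom_ext ((Over.map f).map_id A.base) ((Over.map f).map_id A.P)
      map_comp := fun g h => QuotObj.hom_ext ((Over.map f).map_comp g.base h.base)
        ((Over.map f).map_comp g.top h.top) }
  w := rfl

theorem Phi_map_base {A B : (BG Scheme.fppfPrecoverage (Red.bc f G)).obj} (h : A ⟶ B) :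
    ((Phi f G).map h).base = (Over.map f).map h.base := rfl

theorem Phi_map_top {A B : (BG Scheme.fppfPrecoverage (Red.bc f G)).obj} (h : A ⟶ B) :
    ((Phi f G).map h).top = (Over.map f).map h.top := rfl

theorem Phi_faithful {A B : (BG Scheme.fppfPrecoverage (Red.bc f G)).obj} {h h' : A ⟶ B}
    (e : (Phi f G).map h = (Phi f G).map h') : h = h' :=
  QuotObj.hom_ext (map_faithful f (congrArg QuotObj.Hom.base e)) (map_faithful f (congrArg QuotObj.Hom.top e))

/-- Arrows between images over an image of a morphism of bases are images. -/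
theorem exists_Phi_map {A B : (BG Scheme.fppfPrecoverage (Red.bc f G)).obj} (ψ : (Phi f G).obj A ⟶ (Phi f G).obj B)
    (t : A.base ⟶ B.base) (ht : ψ.base = (Over.map f).map t) : ∃ χ : A ⟶ B, χ.base = t ∧ (Phi f G).map χ = ψ := by
  have hw : ψ.top ≫ (Over.map f).map B.π = (Over.map f).map (A.π ≫ t) := by
    rw [Functor.map_comp, ← ht]
    exact ψ.cart.w
  obtain ⟨top, htop⟩ := exists_map f ψ.top B.π (A.π ≫ t) hw
  refine ⟨{ base := t, top := top, eqv := ?_, cart := ?_, wφ := toUnit_unique _ _ }, rfl, ?_⟩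
  · refine (isEquivariant_push_iff A.act B.act top).2 fun W g z => ?_
    rw [htop]
    exact equiv_iff_sm.1 ψ.eqv W g z
  · apply isPullback_of_map f
    rw [htop, ← ht]
    exact ψ.cart
  · exact QuotObj.hom_ext ht.symm htop

section Un

variable {P : Over S} {T' : Over S'} (a : AlgGrp.Action G P) (ρ : P ⟶ (Over.map f).obj T')
  (hρ : ∀ {W : Over S} (g : W ⟶ G) (z : W ⟶ P), sm a g z ≫ ρ = z ≫ ρ)

/-- The action of `G ×_S S'` on points of `P` regarded over `S'` through `ρ`. -/
noncomputable def us {W : Over S'} (g : W ⟶ Red.bc f G) (p : W ⟶ srcD ρ) : W ⟶ srcD ρ :=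
  Over.homMk (sm a (dn g) ((Over.map f).map p ≫ srcIso ρ)).left (by
    have h1 := congrArg (fun t => t.left) (hρ (dn g) ((Over.map f).map p ≫ srcIso ρ))
    simp only [Over.comp_left] at h1
    have h2 := Over.w p
    change _ ≫ ρ.left ≫ T'.hom = _
    rw [← Category.assoc, h1]
    simpa [srcIso, srcD] using h2)

theorem map_us {W : Over S'} (g : W ⟶ Red.bc f G) (p : W ⟶ srcD ρ) :
    (Over.map f).map (us f a ρ hρ g p) ≫ srcIso ρ = sm a (dn g) ((Over.map f).map p ≫ srcIso ρ) := by
  ext
  simp [us, srcIso]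

instance isIso_srcIso : IsIso (srcIso ρ) :=
  ⟨srcIso' ρ, by ext; simp [srcIso, srcIso'], by ext; simp [srcIso, srcIso']⟩

theorem us_ext {W : Over S'} {p q : W ⟶ srcD ρ}
    (h : (Over.map f).map p ≫ srcIso ρ = (Over.map f).map q ≫ srcIso ρ) : p = q :=
  map_faithful f ((cancel_mono (srcIso ρ)).1 h)

theorem dn_mul {W : Over S'} (g h : W ⟶ Red.bc f G) : dn (g * h) = dn g * dn h := by
  have h1 : up (dn g * dn h) = g * h := by
    rw [up_mul, up_dn, up_dn]
  rw [← h1, dn_up]

theorem comp_us {W W' : Over S'} (t : W' ⟶ W) (g : W ⟶ Red.bc f G) (x : W ⟶ srcD ρ) :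
    t ≫ us f a ρ hρ g x = us f a ρ hρ (t ≫ g) (t ≫ x) :=
  us_ext f ρ (by
    rw [Functor.map_comp, Category.assoc, map_us, map_us, comp_sm, comp_dn, Functor.map_comp, Category.assoc])

theorem us_mul {W : Over S'} (g h : W ⟶ Red.bc f G) (x : W ⟶ srcD ρ) :
    us f a ρ hρ (g * h) x = us f a ρ hρ g (us f a ρ hρ h x) :=
  us_ext f ρ (by rw [map_us, map_us, map_us, dn_mul, mul_sm])

set_option synthInstance.maxHeartbeats 200000 in
theorem us_one {W : Over S'} (x : W ⟶ srcD ρ) : us f a ρ hρ (1 : W ⟶ Red.bc f G) x = x :=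
  us_ext f ρ (by rw [map_us, ← up_one, dn_up, one_sm])

/-- The action of `G ×_S S'` on `P` regarded over `S'`. -/
noncomputable def unAct : AlgGrp.Action (Red.bc f G) (srcD ρ) :=
  ofPoints (us f a ρ hρ) (comp_us f a ρ hρ) (us_one f a ρ hρ) (us_mul f a ρ hρ)

theorem map_sm_unAct {W : Over S'} (g : W ⟶ Red.bc f G) (p : W ⟶ srcD ρ) :
    (Over.map f).map (sm (unAct f a ρ hρ) g p) ≫ srcIso ρ = sm a (dn g) ((Over.map f).map p ≫ srcIso ρ) := by
  have h := sm_ofPoints (us f a ρ hρ) (comp_us f a ρ hρ) (us_one f a ρ hρ) (us_mul f a ρ hρ) g p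
  rw [unAct, h, map_us]

theorem sm_push_unAct {W : Over S} (g : W ⟶ G) (z : W ⟶ (Over.map f).obj (srcD ρ)) :
    sm (push (unAct f a ρ hρ)) g z ≫ srcIso ρ = sm a g (z ≫ srcIso ρ) := by
  obtain ⟨T₀, i, j, z₀, h1, h2, rfl⟩ := exists_src z
  obtain ⟨g, rfl⟩ : ∃ g', i ≫ g' = g := ⟨j ≫ g, by rw [← Category.assoc, h1, Category.id_comp]⟩
  rw [← comp_sm, sm_push_map, Category.assoc, map_sm_unAct, dn_up, comp_sm, Category.assoc]

theorem srcIso_comp : srcIso ρ ≫ ρ = (Over.map f).map (ptD ρ) := by
  ext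
  simp [srcIso, ptD]

theorem unAct_cart (hc : IsPullback a.act (snd G P) ρ ρ) :
    IsPullback (unAct f a ρ hρ).act (snd _ _) (ptD ρ) (ptD ρ) := by
  have hs : ∀ {W : Over S'} (g : W ⟶ Red.bc f G) (z : W ⟶ srcD ρ),
      sm (unAct f a ρ hρ) g z ≫ ptD ρ = z ≫ ptD ρ := by
    intro W g z
    apply map_faithful f
    rw [Functor.map_comp, Functor.map_comp, ← srcIso_comp, ← Category.assoc, map_sm_unAct, hρ, Category.assoc]
  refine isPullback_of_pts _ _ ?_ ?_
  · have h := hs (fst (Red.bc f G) _) (snd (Red.bc f G) (srcD ρ))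
    change (lift (fst _ _) (snd _ _) ≫ (unAct f a ρ hρ).act) ≫ _ = _ at h
    rwa [lift_fst_snd, Category.id_comp] at h
  · intro W z z' hz
    have hz' : ((Over.map f).map z ≫ srcIso ρ) ≫ ρ = ((Over.map f).map z' ≫ srcIso ρ) ≫ ρ := by
      rw [Category.assoc, Category.assoc, srcIso_comp, ← Functor.map_comp, ← Functor.map_comp, hz]
    obtain ⟨g, hg, hu⟩ := existsUnique_of_isPullback hc _ _ hz'
    refine ⟨up g, ?_, fun g' hg' => ?_⟩
    · apply us_ext f ρ
      change (Over.map f).map (sm (unAct f a ρ hρ) (up g) z') ≫ _ = _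
      rw [map_sm_unAct, dn_up]
      exact hg
    · have h3 : dn g' = g := by
        refine hu _ ?_
        change sm a (dn g') _ = _
        rw [← map_sm_unAct f a ρ hρ]
        exact congrArg (fun t => (Over.map f).map t ≫ srcIso ρ) hg'
      rw [← h3, up_dn]

end Un

/-- Every torsor over an image is an image. -/
theorem exists_Phi_obj (B : (BG Scheme.fppfPrecoverage G).obj) (T' : Over S') (e : B.base = (Over.map f).obj T') :
    ∃ (B' : (BG Scheme.fppfPrecoverage (Red.bc f G)).obj) (i : B'.base ≅ T') (φ : (Phi f G).obj B' ⟶ B),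
      φ.base = (Over.map f).map i.hom ≫ eqToHom e.symm := by
  obtain ⟨base, P, act, π, cart, loc, φ, eqv⟩ := B
  obtain rfl : base = (Over.map f).obj T' := e
  have hρ : ∀ {W : Over S} (g : W ⟶ G) (z : W ⟶ P), sm act g z ≫ π = z ≫ π := fun g z =>
    sm_comp_of_isPullback cart.w g z
  let B' : (BG Scheme.fppfPrecoverage (Red.bc f G)).obj :=
    { base := T'
      P := srcD π
      act := unAct f act π hρ
      π := ptD π
      cart := unAct_cart f act π hρ cart
      loc := loc
      φ := toUnit _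
      eqv := toUnit_unique _ _ }
  refine ⟨B', Iso.refl _, { base := 𝟙 _, top := srcIso π, eqv := ?_, cart := ?_, wφ := toUnit_unique _ _ }, ?_⟩
  · exact equiv_iff_sm.2 fun W g z => sm_push_unAct f act π hρ g z
  · refine IsPullback.of_horiz_isIso ⟨?_⟩
    change srcIso π ≫ π = (Over.map f).map (ptD π) ≫ 𝟙 _
    rw [srcIso_comp, Category.comp_id]
  · change 𝟙 ((Over.map f).obj T') = (Over.map f).map (𝟙 T') ≫ eqToHom rfl
    simp

end K741.BGbc
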