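import Groth.Agent.StMod.K741.BGbc
import Groth.Agent.StMod.K741.PtArr
import Groth.Agent.StMod.K908.Cmp

/-!
# The fibres of `B(G ×_S S') ⟶ S'` and of `BG ⟶ S`

* `fibF k : pushCat f (fibCat σ' η') ⥤ᵇ fibCat σ η` for `k : η' ⟶ η` over `S`;
* `exists_term`: universal arrows, whose base is a base change of `k`; `isAff_fibF`;
* `exact_of_le` : exactness passes from `fibCat σ η` to `fibCat σ' η'`.
-/

set_option autoImplicit false
set_option linter.unusedVariables false
set_option linter.style.haveILetI false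
set_option backward.isDefEq.respectTransparency false
set_option backward.isDefEq.respectTransparency.types false

universe w v u

open CategoryTheory CategoryTheory.Limits MonoidalCategory CartesianMonoidalCategory AlgebraicGeometry
open Opposite AlgSt
open StMod hiding fibCat

namespace K741.FibBC

open K906 K741.PushCat K741.BGbc K741.PtArr

variable {S S' : Scheme.{u}} (f : S' ⟶ S) {G : Over S} [GrpObj G]
  (σ' : BG Scheme.fppfPrecoverage (Red.bc f G) ⥤ᵇ PtC S') (σ : BG Scheme.fppfPrecoverage G ⥤ᵇ PtC S)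
  {η' : (PtC S').obj} {η : (PtC S).obj} (k : (Over.map f).obj η'.base ⟶ η.base)

/-- The morphism of bases under an object of the fibre. -/
noncomputable def bmor (a : FObj σ' η') : ((Phi f G).obj a.pt).base ⟶ η.base :=
  (Over.map f).map (fbase (π := σ') a) ≫ k

theorem map_bmor {a b : FObj σ' η'} (h : a ⟶ b) :
    ((Phi f G).map h.hom).base ≫ bmor f σ' k b = bmor f σ' k a := by
  have h1 : h.hom.base ≫ fbase (π := σ') b = fbase (π := σ') a := map_fbase (π := σ') h
  change (Over.map f).map h.hom.base ≫ (Over.map f).map (fbase (π := σ') b) ≫ k =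
    (Over.map f).map (fbase (π := σ') a) ≫ k
  rw [← Category.assoc, ← Functor.map_comp, h1]

/-- The functor on fibres. -/
noncomputable def fibF : pushCat f (fibCat σ' η') ⥤ᵇ fibCat σ η where
  toFunctor :=
    { obj := fun (a : FObj σ' η') => (⟨(Phi f G).obj a.pt, arr σ η (bmor f σ' k a)⟩ : FObj σ η)
      map := fun {a b : FObj σ' η'} (h : a ⟶ b) => (FObj.mkHom ((Phi f G).map h.hom) (by
          refine (map_arr (π := σ) (w₀ := η) ((Phi f G).map h.hom) (bmor f σ' k b)).trans ?_
          exact congrArg (arr σ η) (map_bmor f σ' k h)) :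
        (⟨(Phi f G).obj a.pt, arr σ η (bmor f σ' k a)⟩ : FObj σ η) ⟶
          (⟨(Phi f G).obj b.pt, arr σ η (bmor f σ' k b)⟩ : FObj σ η))
      map_id := fun (a : FObj σ' η') => FObj.hom_ext ((Phi f G).map_id a.pt)
      map_comp := fun {a b c : FObj σ' η'} (g : a ⟶ b) (h : b ⟶ c) => FObj.hom_ext ((Phi f G).map_comp g.hom h.hom) }
  w := rfl

theorem fibF_map_hom {a b : FObj σ' η'} (h : a ⟶ b) :
    FObj.Hom.hom ((fibF f σ' σ k).map h) = (Phi f G).map h.hom := rfl

theorem fbase_arr {A : (BG Scheme.fppfPrecoverage G).obj} (b : A.base ⟶ η.base) :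
    fbase (π := σ) (⟨A, arr σ η b⟩ : FObj σ η) = b := baseOver_arr σ η b

theorem map_arr' {A' A : (BG Scheme.fppfPrecoverage G).obj} (φ : A' ⟶ A) {b : A.base ⟶ η.base}
    {b' : A'.base ⟶ η.base} (e : φ.base ≫ b = b') : σ.map φ ≫ arr σ η (x := A) b = arr σ η (x := A') b' := by
  subst e
  exact map_arr (π := σ) (w₀ := η) φ b

theorem map_arr'' {A' A : (BG Scheme.fppfPrecoverage (Red.bc f G)).obj} (φ : A' ⟶ A) {b : A.base ⟶ η'.base}
    {b' : A'.base ⟶ η'.base} (e : φ.base ≫ b = b') : σ'.map φ ≫ arr σ' η' (x := A) b = arr σ' η' (x := A') b' := by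
  subst e
  exact map_arr (π := σ') (w₀ := η') φ b

section Lift

variable {f}
variable (h : FibCat.IsFibGrpd (BG Scheme.fppfPrecoverage G).p)

include h in
theorem exists_lift_base {A : (BG Scheme.fppfPrecoverage G).obj} {T : Over S} (g : T ⟶ A.base) :
    ∃ (B : (BG Scheme.fppfPrecoverage G).obj) (φ : B ⟶ A) (e : B.base = T), φ.base = eqToHom e ≫ g := by
  obtain ⟨B, φ, hφ⟩ := h.exists_lift (x := A) g
  have e : B.base = T := IsHomLift.domain_eq (BG Scheme.fppfPrecoverage G).p g φ
  refine ⟨B, φ, e, ?_⟩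
  subst e
  have h1 : g = (BG Scheme.fppfPrecoverage G).p.map φ := IsHomLift.eq_of_isHomLift (BG Scheme.fppfPrecoverage G).p g φ
  rw [eqToHom_refl, Category.id_comp]
  exact h1.symm

include h in
/-- Pull-back of a torsor along a morphism from an image. -/
theorem exists_Phi_lift {A : (BG Scheme.fppfPrecoverage G).obj} {T' : Over S'} (g : (Over.map f).obj T' ⟶ A.base) :
    ∃ (B' : (BG Scheme.fppfPrecoverage (Red.bc f G)).obj) (i : B'.base ≅ T') (φ : PhiObj f B' ⟶ A),
      φ.base = (Over.map f).map i.hom ≫ g := by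
  obtain ⟨B, φ, e, hφ⟩ := exists_lift_base h g
  obtain ⟨B', i, ψ, hψ⟩ := exists_Phi_obj f B T' e
  refine ⟨B', i, ψ ≫ φ, ?_⟩
  change ψ.base ≫ φ.base = _
  rw [hψ, hφ, Category.assoc, eqToHom_trans_assoc, eqToHom_refl, Category.id_comp]

include h in
/-- The universal property of a pull-back. -/
theorem existsUnique_Phi {A : (BG Scheme.fppfPrecoverage G).obj} {B C : (BG Scheme.fppfPrecoverage (Red.bc f G)).obj}
    (φ : PhiObj f B ⟶ A) (β : PhiObj f C ⟶ A) (t : C.base ⟶ B.base) (ht : (Over.map f).map t ≫ φ.base = β.base) :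
    ∃ χ : C ⟶ B, χ.base = t ∧ (Phi f G).map χ ≫ φ = β ∧
      ∀ χ' : C ⟶ B, χ'.base = t → (Phi f G).map χ' ≫ φ = β → χ' = χ := by
  obtain ⟨χ₁, ⟨h1, h2⟩, hu⟩ := Grpd.existsUnique_hom h φ β ((Over.map f).map t) ht
  obtain ⟨χ, h3, h4⟩ := exists_Phi_map f χ₁ t h1
  refine ⟨χ, h3, by rw [h4, h2], fun χ' h5 h6 => Phi_faithful f ?_⟩
  refine (hu _ ⟨?_, h6⟩).trans h4.symm
  change (Over.map f).map χ'.base = _
  rw [h5]

end Lift

variable (h' : FibCat.IsFibGrpd (BG Scheme.fppfPrecoverage (Red.bc f G)).p)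
  (h : FibCat.IsFibGrpd (BG Scheme.fppfPrecoverage G).p)

/-- The pull-back of the base of an object of the fibre. -/
theorem exists_sq {T : Over S} (t : T ⟶ η.base) : ∃ (T' : Over S') (h₀ : T' ⟶ η'.base)
    (g : (Over.map f).obj T' ⟶ T), IsPullback g.left h₀.left t.left k.left ∧ g ≫ t = (Over.map f).map h₀ ≫ k := by
  let T' : Over S' := Over.mk (pullback.snd t.left k.left ≫ η'.base.hom)
  let h₀ : T' ⟶ η'.base := Over.homMk (pullback.snd t.left k.left) rfl
  let g : (Over.map f).obj T' ⟶ T := Over.homMk (pullback.fst t.left k.left) (by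
    have h1 := Over.w t
    have h2 := Over.w k
    change _ = (pullback.snd t.left k.left ≫ η'.base.hom) ≫ f
    rw [← h1, ← Category.assoc, pullback.condition, Category.assoc, h2, Category.assoc]
    rfl)
  refine ⟨T', h₀, g, IsPullback.of_hasPullback _ _, ?_⟩
  ext
  exact pullback.condition

theorem lift_sq {T : Over S} {t : T ⟶ η.base} {T' : Over S'} {h₀ : T' ⟶ η'.base} {g : (Over.map f).obj T' ⟶ T}
    (sq : IsPullback g.left h₀.left t.left k.left) {C : Over S'} (b : (Over.map f).obj C ⟶ T) (c : C ⟶ η'.base)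
    (hbc : b ≫ t = (Over.map f).map c ≫ k) : ∃ t₀ : C ⟶ T', t₀ ≫ h₀ = c ∧ (Over.map f).map t₀ ≫ g = b := by
  have hb' : b.left ≫ t.left = c.left ≫ k.left := congrArg (fun m => m.left) hbc
  refine ⟨Over.homMk (sq.lift b.left c.left hb') ?_, ?_, ?_⟩
  · rw [← Over.w h₀, ← Category.assoc, sq.lift_snd]
    exact Over.w c
  · ext
    exact sq.lift_snd _ _ _
  · ext
    exact sq.lift_fst _ _ _

theorem sq_ext {T : Over S} {t : T ⟶ η.base} {T' : Over S'} {h₀ : T' ⟶ η'.base} {g : (Over.map f).obj T' ⟶ T}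
    (sq : IsPullback g.left h₀.left t.left k.left) {C : Over S'} {a b : C ⟶ T'} (h1 : a ≫ h₀ = b ≫ h₀)
    (h2 : (Over.map f).map a ≫ g = (Over.map f).map b ≫ g) : a = b := by
  ext
  exact sq.hom_ext (congrArg (fun m => m.left) h2) (congrArg (fun m => m.left) h1)

include h in
/-- Universal arrows to an object of the fibre. -/
theorem exists_term (a : FObj σ η) : ∃ (w : FObj σ' η') (α : (fibF f σ' σ k).obj w ⟶ a),
    K908.Aff.IsTerm (fibF f σ' σ k) (w := w) α ∧
    IsPullback (FObj.Hom.hom α).base.left (fbase (π := σ') w).left (fbase (π := σ) a).left k.left := by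
  let t : a.pt.base ⟶ η.base := fbase (π := σ) a
  obtain ⟨T', h₀, g, sq, hg⟩ := exists_sq f k t
  obtain ⟨B', i, φ₀, hφ₀⟩ := exists_Phi_lift h g
  let w : FObj σ' η' := ⟨B', arr σ' η' (x := B') (i.hom ≫ h₀)⟩
  have hw : fbase (π := σ') w = i.hom ≫ h₀ := baseOver_arr σ' η' _
  have ha : a.arr = arr σ η t := eq_arr a.arr
  have hcomm : σ.map φ₀ ≫ a.arr = arr σ η (x := PhiObj f B') (bmor f σ' k w) := by
    rw [ha]
    refine map_arr' σ φ₀ ?_
    rw [bmor, hφ₀, hw, Category.assoc, hg, Functor.map_comp, Category.assoc]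
  refine ⟨w, (FObj.mkHom φ₀ hcomm : (⟨PhiObj f B', arr σ η (x := PhiObj f B') (bmor f σ' k w)⟩ : FObj σ η) ⟶ a), ?_, ?_⟩
  · intro θ β
    let θ' : FObj σ' η' := θ
    let β' : PhiObj f θ'.pt ⟶ a.pt := FObj.Hom.hom β
    have hb : β'.base ≫ t = (Over.map f).map (fbase (π := σ') θ') ≫ k := by
      have h1 := map_fbase (π := σ) β
      exact h1.trans (fbase_arr σ _)
    obtain ⟨t₀, ht₀, ht₀'⟩ := lift_sq f k sq β'.base (fbase (π := σ') θ') hb
    have hfac : ((Over.map f).map (t₀ ≫ i.inv)) ≫ φ₀.base = β'.base := by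
      rw [hφ₀, Functor.map_comp, Category.assoc, ← Category.assoc ((Over.map f).map i.inv), ← Functor.map_comp,
        Iso.inv_hom_id, CategoryTheory.Functor.map_id, Category.id_comp, ht₀']
    obtain ⟨χ, h3, h4, hu⟩ := existsUnique_Phi h φ₀ β' (t₀ ≫ i.inv) hfac
    have hc : σ'.map χ ≫ w.arr = θ'.arr := by
      refine Eq.trans ?_ (eq_arr θ'.arr).symm
      refine map_arr'' f σ' χ ?_
      rw [h3, Category.assoc, Iso.inv_hom_id_assoc, ht₀]
      rfl
    refine ⟨(FObj.mkHom χ hc : θ' ⟶ w), FObj.hom_ext h4, fun χ' hχ' => FObj.hom_ext ?_⟩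
    let χ'' : θ'.pt ⟶ B' := FObj.Hom.hom χ'
    have h5 : (Phi f G).map χ'' ≫ φ₀ = β' := congrArg FObj.Hom.hom hχ'
    refine hu χ'' ?_ h5
    have h6 : χ''.base ≫ i.hom ≫ h₀ = fbase (π := σ') θ' := by
      rw [← hw]
      exact map_fbase (π := σ') χ'
    rw [← cancel_mono i.hom, Category.assoc, Iso.inv_hom_id, Category.comp_id]
    refine sq_ext f k sq ?_ ?_
    · rw [Category.assoc, h6, ht₀]
    · have h8 : (Over.map f).map χ''.base ≫ φ₀.base = β'.base := congrArg QuotObj.Hom.base h5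
      rw [Functor.map_comp, Category.assoc, ← hφ₀, h8, ht₀']
  · change IsPullback φ₀.base.left (fbase (π := σ') w).left t.left k.left
    have h2 : φ₀.base.left = i.hom.left ≫ g.left := congrArg (fun m => m.left) hφ₀
    rw [h2, hw]
    have hi : IsIso i.hom.left := inferInstance
    refine IsPullback.of_iso sq (asIso i.hom.left).symm (Iso.refl _) (Iso.refl _) (Iso.refl _) ?_ ?_ ?_ ?_
    · simp
    · simp
    · simp
    · simp

include h in
/-- The functor on fibres over affine schemes is affine. -/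
theorem isAff_fibF (hη' : IsAffine (sch (PtC S') η')) (hη : IsAffine (sch (PtC S) η)) :
    K908.Aff.IsAff (fibF f σ' σ k) := by
  intro a ha
  obtain ⟨w, α, h1, h2⟩ := exists_term f σ' σ k h a
  refine ⟨w, α, ?_, h1⟩
  have h3 : IsAffine (FObj.pt (π := σ) a).base.left := ha
  have h4 : IsAffine ((PtC S').p.obj η').left := hη'
  have h5 : IsAffine ((PtC S).p.obj η).left := hη
  have h6 : IsAffine (FObj.pt (π := σ') w).base.left := K907.Sec.isAffine_of_isPullback h2
  exact h6

include k h h' in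
/-- Exactness passes to the fibres of the base change. -/
theorem exact_bc (hη' : IsAffine (sch (PtC S') η')) (hη : IsAffine (sch (PtC S) η)) (hE : Exact (fibCat σ η)) :
    Exact (fibCat σ' η') :=
  exact_of_pushCat f (AffFp.exact_of_isAff (isFibGrpd_fibCat h) (isFibGrpd_pushCat f (isFibGrpd_fibCat h'))
    (isAff_fibF f σ' σ k h hη' hη) hE)

include h h' in
/-- Exactness descends when the two fibres have the same base. -/
theorem exact_desc (hη' : IsAffine (sch (PtC S') η')) (hk : IsIso k.left) (hE : Exact (fibCat σ' η')) :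
    Exact (fibCat σ η) := by
  intro F G u hu
  haveI h1 : FibCat.IsFibGrpd (pushCat f (fibCat σ' η')).p := isFibGrpd_pushCat f (isFibGrpd_fibCat h')
  haveI h2 : FibCat.IsFibGrpd (fibCat σ η).p := isFibGrpd_fibCat h
  have hη : IsAffine (sch (PtC S) η) := by
    have : IsAffine ((Over.map f).obj η'.base).left := hη'
    exact IsAffine.of_isIso (inv k.left)
  have hα : ∀ (a : FObj σ η) (w : FObj σ' η') (α : (fibF f σ' σ k).obj w ⟶ a)
      (_ : IsPullback (FObj.Hom.hom α).base.left (fbase (π := σ') w).left (fbase (π := σ) a).left k.left),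
      IsIso (FObj.Hom.hom α).base.left := fun a w α hp =>
    hp.isIso_fst_of_isIso
  have hLS : K908.Cmp.LSurj (fibF f σ' σ k) := by
    intro a ha
    obtain ⟨w, α, h3, h4⟩ := exists_term f σ' σ k h a
    have h5 := hα a w α h4
    have h6 : IsAffine (FObj.pt (π := σ) a).base.left := ha
    have h7 : IsAffine ((Over.map f).obj (FObj.pt (π := σ') w).base).left :=
      IsAffine.of_isIso (FObj.Hom.hom α).base.left
    refine ⟨w, h7, α, ?_, ?_⟩
    · change Flat (FObj.Hom.hom α).base.left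
      infer_instance
    · change Surjective (FObj.Hom.hom α).base.left
      infer_instance
  have hLF : K908.Cmp.LFull (fibF f σ' σ k) := by
    intro x' x hx' hx b
    obtain ⟨w, α, h3, h4⟩ := exists_term f σ' σ k h ((fibF f σ' σ k).obj x)
    have h5 := hα _ w α h4
    obtain ⟨χx, hχx, -⟩ := h3 x (𝟙 _)
    obtain ⟨χb, hχb, -⟩ := h3 x' b
    have h6 : (FObj.Hom.hom ((fibF f σ' σ k).map χx)).base.left ≫ (FObj.Hom.hom α).base.left = 𝟙 _ :=
      congrArg (fun m => (QuotObj.Hom.base (FObj.Hom.hom m)).left) hχx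
    have h7 : IsIso (FObj.Hom.hom ((fibF f σ' σ k).map χx)).base.left := by
      rw [← IsIso.eq_comp_inv, Category.id_comp] at h6
      rw [h6]
      infer_instance
    have h8 : IsIso ((pushCat f (fibCat σ' η')).p.map χx) := by
      have : IsIso ((Over.forget S).map ((pushCat f (fibCat σ' η')).p.map χx)) := h7
      exact isIso_of_reflects_iso _ (Over.forget S)
    have h9 : IsIso χx := Grpd.isIso_of_isIso_map h1 χx
    refine ⟨x', hx', 𝟙 x', χb ≫ inv χx, ⟨?_, ?_⟩, ?_⟩
    · rw [bmap_id]; infer_instance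
    · rw [bmap_id]; infer_instance
    · have h10 : (fibF f σ' σ k).map (inv χx) = α := by
        rw [← cancel_epi ((fibF f σ' σ k).map χx), ← Functor.map_comp, IsIso.hom_inv_id, hχx,
          CategoryTheory.Functor.map_id]
      rw [CategoryTheory.Functor.map_id, Category.id_comp, Functor.map_comp, h10, hχb]
  refine (AffFp.surjective_baseCat_iff (AffFp.toBaseCat (fibCat σ η)) u.hom).1 ?_
  refine K908.Cmp.surjective_relSectMap hLS hLF (AffFp.toBaseCat (fibCat σ η)) u (Over.mk (𝟙 S)) ?_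
  refine (AffFp.surjective_baseCat_iff _ _).2 ?_
  exact exact_pushCat f hE ((comapQ (fibF f σ' σ k)).map u) (Comap.isSurj_comapMap (fibF f σ' σ k) u.hom hu)

end K741.FibBC
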