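import Groth.Agent.StMod.K906.AffFp

/-!
# A category over `(Sch/S')` regarded over `(Sch/S)` along `f : S' ⟶ S`

* `pushCat f 𝒵`; `isFibGrpd_pushCat`;
* `upM`, `dnM`, `upQ`, `dnQ` : modules on `𝒵` and on `pushCat f 𝒵` are the same;
* `exact_pushCat_iff`.
-/

set_option autoImplicit false
set_option linter.unusedVariables false
set_option linter.style.haveILetI false
set_option backward.isDefEq.respectTransparency false
set_option backward.isDefEq.respectTransparency.types false

universe w v u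

open CategoryTheory CategoryTheory.Limits AlgebraicGeometry Opposite StMod

namespace K741.PushCat

open K906

variable {S S' : Scheme.{u}} (f : S' ⟶ S)

/-- A category over `(Sch/S')` regarded over `(Sch/S)`. -/
abbrev pushCat (𝒵 : BasedCategory.{v, w} (Over S')) : BasedCategory.{v, w} (Over S) where
  obj := 𝒵.obj
  p := 𝒵.p ⋙ Over.map f

variable {𝒵 : BasedCategory.{v, w} (Over S')}

/-- A module regarded over `(Sch/S)`. -/
def upM (M : Mod 𝒵) : Mod (pushCat f 𝒵) where
  obj := M.obj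
  map φ g hg := M.map φ hg
  map_id := M.map_id
  map_comp := M.map_comp

/-- A module regarded over `(Sch/S')`. -/
def dnM (M : Mod (pushCat f 𝒵)) : Mod 𝒵 where
  obj := M.obj
  map φ g hg := M.map φ hg
  map_id := M.map_id
  map_comp := M.map_comp

/-- A quasi-coherent module regarded over `(Sch/S)`. -/
def upQ (M : QCoh 𝒵) : QCoh (pushCat f 𝒵) := ⟨upM f M.obj, M.property⟩

/-- A quasi-coherent module regarded over `(Sch/S')`. -/
def dnQ (M : QCoh (pushCat f 𝒵)) : QCoh 𝒵 := ⟨dnM f M.obj, M.property⟩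

/-- A morphism of modules regarded over `(Sch/S)`. -/
def upHom {M N : Mod 𝒵} (u : M ⟶ N) : upM f M ⟶ upM f N := Mod.Hom.mk u.app u.comm

/-- A morphism of modules regarded over `(Sch/S')`. -/
def dnHom {M N : Mod (pushCat f 𝒵)} (u : M ⟶ N) : dnM f M ⟶ dnM f N := Mod.Hom.mk u.app u.comm

theorem isSurj_upHom {M N : Mod 𝒵} {u : M ⟶ N} (h : Mod.IsSurj u) : Mod.IsSurj (upHom f u) := h

theorem isSurj_dnHom {M N : Mod (pushCat f 𝒵)} {u : M ⟶ N} (h : Mod.IsSurj u) : Mod.IsSurj (dnHom f u) := h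

theorem exact_of_pushCat (h : Exact (pushCat f 𝒵)) : Exact 𝒵 := by
  intro F G u hu s
  obtain ⟨t, ht⟩ := h (F := upQ f F) (G := upQ f G) (ObjectProperty.homMk (upHom f u.hom)) (isSurj_upHom f hu)
    ⟨s.1, s.2⟩
  exact ⟨⟨t.1, t.2⟩, Subtype.ext (congrArg Subtype.val ht)⟩

theorem exact_pushCat (h : Exact 𝒵) : Exact (pushCat f 𝒵) := by
  intro F G u hu s
  obtain ⟨t, ht⟩ := h (F := dnQ f F) (G := dnQ f G) (ObjectProperty.homMk (dnHom f u.hom)) (isSurj_dnHom f hu)
    ⟨s.1, s.2⟩
  exact ⟨⟨t.1, t.2⟩, Subtype.ext (congrArg Subtype.val ht)⟩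

theorem map_faithful {A B : Over S'} {a b : A ⟶ B} (h : (Over.map f).map a = (Over.map f).map b) : a = b := by
  ext
  have := congrArg (fun t => t.left) h
  simpa using this

theorem eqToHom_left {A B : Over S} (h : A = B) : (eqToHom h).left = eqToHom (congrArg (fun X => X.left) h) := by
  subst h
  rfl

/-- A morphism between images, compatible with morphisms to an image, is an image. -/
theorem exists_map {A B C : Over S'} (g : (Over.map f).obj A ⟶ (Over.map f).obj B) (b : B ⟶ C) (c : A ⟶ C)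
    (h : g ≫ (Over.map f).map b = (Over.map f).map c) : ∃ g₀ : A ⟶ B, (Over.map f).map g₀ = g := by
  have h1 : g.left ≫ b.left = c.left := congrArg (fun t => t.left) h
  refine ⟨Over.homMk g.left ?_, ?_⟩
  · rw [← Over.w b, ← Category.assoc, h1, Over.w c]
  · ext
    simp

/-- The pushed category is fibred in groupoids. -/
theorem isFibGrpd_pushCat (h : FibCat.IsFibGrpd 𝒵.p) : FibCat.IsFibGrpd (pushCat f 𝒵).p where
  exists_lift {x V} g := by
    have hw : (g.left ≫ (𝒵.p.obj x).hom) ≫ f = V.hom := (Category.assoc _ _ _).trans (Over.w g)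
    let V' : Over S' := Over.mk (g.left ≫ (𝒵.p.obj x).hom)
    let g' : V' ⟶ 𝒵.p.obj x := Over.homMk g.left rfl
    obtain ⟨y, φ, hφ⟩ := h.exists_lift (x := x) g'
    have e : 𝒵.p.obj y = V' := IsHomLift.domain_eq 𝒵.p g' φ
    have eV : (Over.map f).obj V' = V := congrArg (fun k : V.left ⟶ S => Over.mk k) hw
    have ha : (pushCat f 𝒵).p.obj y = V := (congrArg (Over.map f).obj e).trans eV
    refine ⟨y, φ, IsHomLift.of_fac _ _ _ ha rfl ?_⟩
    have h1 : g' = eqToHom e.symm ≫ 𝒵.p.map φ ≫ eqToHom rfl := IsHomLift.fac 𝒵.p g' φ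
    have h2 : g.left = (eqToHom e.symm ≫ 𝒵.p.map φ ≫ eqToHom rfl).left := congrArg (fun t => t.left) h1
    ext
    rw [h2]
    simp only [Over.comp_left, eqToHom_left, eqToHom_refl, Category.comp_id]
    rfl
  isStronglyCartesian {y x} φ :=
    { universal_property' := fun {z} g ψ hψ => by
        have hψ' : g ≫ (Over.map f).map (𝒵.p.map φ) = (Over.map f).map (𝒵.p.map ψ) :=
          IsHomLift.eq_of_isHomLift (pushCat f 𝒵).p (g ≫ (pushCat f 𝒵).p.map φ) ψ
        obtain ⟨g₀, rfl⟩ := exists_map f g _ _ hψ'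
        rw [← Functor.map_comp] at hψ'
        obtain ⟨χ, ⟨h1, h2⟩, hu⟩ := Grpd.existsUnique_hom h φ ψ g₀ (map_faithful f hψ')
        refine ⟨χ, ⟨?_, h2⟩, ?_⟩
        · rw [← h1]
          exact IsHomLift.map (pushCat f 𝒵).p χ
        · rintro χ'' ⟨h3, h4⟩
          refine hu χ'' ⟨?_, h4⟩
          exact map_faithful f (IsHomLift.eq_of_isHomLift (pushCat f 𝒵).p _ χ'').symm }

end K741.PushCat
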